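import Cfsg.Agent.H436.RuCent

/-!
# The centralizer of an element of order 7 in the Rudvalis group (helper148)

With the certificate engine of `CpAutRuFive.Eng` (helper21): `|C(x)| ≤ 28` for `x` of order 7.
-/

set_option autoImplicit false
set_option maxRecDepth 100000
set_option exponentiation.threshold 5000

namespace Cfsg.Agent.H148.Ru

open Subgroup Cfsg Cfsg.Agent.SporadicB Cfsg.Agent.RuD.Letters Cfsg.Agent.SporRec.TCUpperCert
open Cfsg.Agent.KFacts.Ru Cfsg.Agent.KFacts.Ru.CentEng Cfsg.Agent.CpAutRuFive.Eng Cfsg.Agent.H436.RuCent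

/-- an element of order 7 -/
def wC : List ℕ := [3]

/-- points adjacent to their image under `wC` -/
def MC : ℕ := 0xc3c2cbe4434c600d108215e4c1ae444ce89735d60b2cdc1e424191335c05bf0206608aa28c09f0151ad90276ca63785937dc828f969e00d7db115e840c2e7359bf6da10c4b807cb801a6776eb910d3ea08ef016600ea1a60fc89f6b324252511506dca8ecf490718cdb8e8c160a7b2d682ab476f8cb24172c139168661f0303148a0415ce0f1400d76b64e4fb843223498e77328961f26e8074758149176111ca30941aaac582fc999d404051f5519e381df4088794384a054420e135c857549c77cf8922e6c8b2606646586941d82977c846a2732d022e18e1d07e26c58174da4dda55a8d8a5b4aae615d64ea241dcd1e0fb497a8a4eea42287626cb96f683c18284bc15119c8d41ac3c34e31890126765cc2cd59278ca251dc056cf231d2564380492ada0a112540550dc59e0e8ae2d64b28a89e5f808e7f3e3850cf0ecd7cd967a86167254c543280f01104a63b2509c650daa7dafcbd8634ca6ac6408bea162f9dc391df29991cd4255b8f8b2c815007179c1d0754bbb9414a5306e5cafb3dab80e654240cf4054942033586cb8e38df6df4ccd452919444c4e629c0fb3732e5eaf1eb940f443be3532135776025610b8b8f64014310402c842761b801b04002b411e9f51e5c5ce409427cd4893a534070ac20390d4b5fd24a41dbfa340799e383233d1578c44fe140443d9b4c33d909b70e4ca57470d59596b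

/-- instructions -/
def insC : List St := [
  .cnt 0 828, .base 0 192, .and 5 1, .diff 0 1, .diff 0 4, .diff 0 6, .pt 0 458, .and 0 4, .and 0 11,
  .and 0 11, .and 0 15, .diff 0 7, .diff 0 18, .and 0 21, .diff 0 8, .diff 0 19, .pt 0 32, .and 13 0,
  .and 0 2, .and 0 4, .and 0 28, .and 0 20, .and 0 9, .pt 0 10, .and 22 2, .and 0 37, .and 0 28, .and 0 18,
  .pt 0 0]

theorem adjC : chkAdj wC MC = true := by decide +kernel
theorem runC : run wC insC [MC] = some 28 := by decide +kernel

theorem card_C : Nat.card (Cen [wC]) ≤ 28 := by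
  refine card_le_of_run (w := wC) (List.mem_singleton.2 rfl) ?_ runC
  intro m hm
  rw [List.mem_singleton] at hm
  subst hm
  exact ⟨wC, fun x hx => hx _ (List.mem_singleton.2 rfl), adjC⟩

theorem chkC7 : chkEq (pw wC 7) [] = true := by decide +kernel
theorem neC : Nat.beq (evalK wC 1) 1 = false := by decide +kernel

theorem orderC : orderOf (wprod ml wC : RuOrder.H) = 7 := orderOf_word (by norm_num) chkC7 neC

end Cfsg.Agent.H148.Ru
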