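import Mathlib

/-!
# A point stabilizer of a primitive rank 3 group is maximal (helper148)
-/

set_option autoImplicit false

namespace Cfsg.Agent.H148.Ru

open MulAction Subgroup

/-- **The point stabilizer of a transitive group of rank 3 with subdegrees `1, k, l` is maximal if neither `1 + k` nor
`1 + l` divides the degree.** -/
theorem coatom_of_rank_three {G Ω : Type*} [Group G] [Finite G] [Finite Ω] [MulAction G Ω] [IsPretransitive G Ω]
    (a b c : Ω) {k l : ℕ} (hk : (orbit (stabilizer G a) b).ncard = k) (hl : (orbit (stabilizer G a) c).ncard = l)
    (hcov : ∀ x : Ω, x = a ∨ x ∈ orbit (stabilizer G a) b ∨ x ∈ orbit (stabilizer G a) c)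
    (hab : a ∉ orbit (stabilizer G a) b) (hac : a ∉ orbit (stabilizer G a) c)
    (h1 : ¬ 1 + k ∣ Nat.card Ω) (h2 : ¬ 1 + l ∣ Nat.card Ω) : IsCoatom (stabilizer G a) := by
  have hG : Nat.card Ω * Nat.card (stabilizer G a) = Nat.card G := by
    have h3 := (stabilizer G a).index_mul_card
    rwa [index_stabilizer_of_transitive] at h3
  have hSpos : 0 < Nat.card (stabilizer G a) := Nat.card_pos
  refine ⟨?_, fun K hK => ?_⟩
  · intro h
    have h3 : b ∈ orbit (stabilizer G a) b := mem_orbit_self b
    have h4 : b = a := by
      obtain ⟨g, hg⟩ := exists_smul_eq G a b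
      have h5 : g ∈ stabilizer G a := by rw [h]; trivial
      rw [← hg]
      exact h5
    rw [h4] at h3
    apply hab
    rw [h4]
    exact h3
  · -- the orbit of `a` under `K`
    set A : Set Ω := orbit K a with hA
    have hcard : A.ncard * Nat.card (stabilizer G a) = Nat.card K := by
      have h3 : Nat.card (orbit K a) * Nat.card (stabilizer K a) = Nat.card K := by
        rw [← Nat.card_prod]
        exact Nat.card_congr (orbitProdStabilizerEquivGroup K a)
      have h4 : Nat.card (stabilizer K a) = Nat.card (stabilizer G a) :=
        Nat.card_congr ⟨fun g => ⟨g.1.1, g.2⟩, fun g => ⟨⟨g.1, hK.le g.2⟩, g.2⟩, fun _ => rfl, fun _ => rfl⟩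
      rw [h4, Nat.card_coe_set_eq] at h3
      exact h3
    have hdvd : A.ncard ∣ Nat.card Ω := by
      have h3 := card_subgroup_dvd_card K
      rw [← hcard, ← hG] at h3
      exact Nat.dvd_of_mul_dvd_mul_right hSpos h3
    have hsub : ∀ x ∈ A, orbit (stabilizer G a) x ⊆ A := by
      rintro x ⟨g, rfl⟩ _ ⟨s, rfl⟩
      exact ⟨⟨s.1, hK.le s.2⟩ * g, mul_smul _ _ _⟩
    have haA : a ∈ A := mem_orbit_self a
    have heq : ∀ {x y : Ω}, y ∈ orbit (stabilizer G a) x → orbit (stabilizer G a) y = orbit (stabilizer G a) x :=
      fun h => orbit_eq_iff.2 h
    by_cases hb : ∃ x ∈ A, x ∈ orbit (stabilizer G a) b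
    · obtain ⟨x, hx, hxb⟩ := hb
      have hb' : orbit (stabilizer G a) b ⊆ A := by
        rw [← heq hxb]; exact hsub x hx
      by_cases hc : ∃ x ∈ A, x ∈ orbit (stabilizer G a) c
      · obtain ⟨y, hy, hyc⟩ := hc
        have hc' : orbit (stabilizer G a) c ⊆ A := by
          rw [← heq hyc]; exact hsub y hy
        have hU : A = Set.univ := by
          refine Set.eq_univ_of_forall fun z => ?_
          rcases hcov z with h | h | h
          · rw [h]; exact haA
          · exact hb' h
          · exact hc' h
        apply (card_eq_iff_eq_top K).1
        rw [← hcard, hU, Set.ncard_univ, hG]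
      · push Not at hc
        exfalso
        have hU : A = insert a (orbit (stabilizer G a) b) := by
          apply Set.Subset.antisymm
          · intro z hz
            rcases hcov z with h | h | h
            · exact Or.inl h
            · exact Or.inr h
            · exact absurd h (hc z hz)
          · intro z hz
            rcases hz with h | h
            · rw [h]; exact haA
            · exact hb' h
        rw [hU, Set.ncard_insert_of_notMem hab, hk, add_comm] at hdvd
        exact h1 hdvd
    · push Not at hb
      by_cases hc : ∃ x ∈ A, x ∈ orbit (stabilizer G a) c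
      · exfalso
        obtain ⟨y, hy, hyc⟩ := hc
        have hc' : orbit (stabilizer G a) c ⊆ A := by
          rw [← heq hyc]; exact hsub y hy
        have hU : A = insert a (orbit (stabilizer G a) c) := by
          apply Set.Subset.antisymm
          · intro z hz
            rcases hcov z with h | h | h
            · exact Or.inl h
            · exact absurd h (hb z hz)
            · exact Or.inr h
          · intro z hz
            rcases hz with h | h
            · rw [h]; exact haA
            · exact hc' h
        rw [hU, Set.ncard_insert_of_notMem hac, hl, add_comm] at hdvd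
        exact h2 hdvd
      · exfalso
        push Not at hc
        apply hK.not_ge
        intro g hg
        rw [mem_stabilizer_iff]
        have h3 : g • a ∈ A := ⟨⟨g, hg⟩, rfl⟩
        rcases hcov (g • a) with h | h | h
        · exact h
        · exact absurd h (hb _ h3)
        · exact absurd h (hc _ h3)

end Cfsg.Agent.H148.Ru
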