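import Cfsg.Agent.H436.TwoRu

/-!
# A subgroup of the Rudvalis group of order divisible by 756 (helper148)

`XX` : the stabilizer in `RuOrder.H` of a clique of 28 of the 4060 points on which it is 2-transitive (it contains `U₃(3)`).
-/

set_option autoImplicit false
set_option maxRecDepth 100000
set_option exponentiation.threshold 5000

namespace Cfsg.Agent.H148.Ru

open Subgroup Cfsg Cfsg.Agent.SporadicB Cfsg.Agent.RuD.Letters Cfsg.Agent.SporRec.TCUpperCert
open Cfsg.Agent.KFacts.Ru Cfsg.Agent.KFacts.Ru.CentEng Cfsg.Agent.CpAutRuFive.Eng Cfsg.Agent.H436.RuCent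

/-- the 28 points -/
def L28 : List ℕ := [
  29, 248, 301, 497, 713, 981, 1006, 1340, 1409, 1439, 1441, 1477, 1707, 1781, 1990, 2013, 2079, 2259, 2437,
  2536, 2659, 2693, 3239, 3250, 3549, 3796, 3851, 4057]

/-- the word preserves the 28 points -/
noncomputable def chkP (w : List ℕ) : Bool := L28.all fun i => L28.contains (evalK w i)

/-- two elements fixing the point 1707 and an element moving it -/
def wu : List ℕ := [6, 6]
def wv : List ℕ := [3, 8, 5, 0, 3, 3, 5, 1, 3, 5, 4, 1, 7]
def wd : List ℕ := [4]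

/-- the generators of the stabilizer of the point 1707 -/
def gw (k : ℕ) : List ℕ := [wu, wv].getD k []

/-- words in the generators taking 1439 to the other points -/
def tab : List (ℕ × List ℕ) := [
  (29, [1, 0, 1, 0]), (248, [1, 1]), (301, [1, 1, 1]), (497, [1, 0, 1, 1, 0, 1]), (713, [0, 1, 1, 0]),
  (981, [1, 0, 1, 0, 1, 0]), (1006, [0, 1, 1, 0, 1]), (1340, [0]), (1409, [0, 1, 0, 1, 0]), (1439, []),
  (1441, [1, 1, 0, 1, 1]), (1477, [1, 0, 1, 1]), (1781, [1, 1, 0, 1, 1, 0, 1]), (1990, [1, 1, 0]),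
  (2013, [1, 1, 0, 1, 0]), (2079, [0, 1, 1]), (2259, [1, 0]), (2437, [1, 0, 1]), (2536, [1, 1, 0, 1]),
  (2659, [1, 1, 0, 1, 1, 0]), (2693, [1, 1, 1, 1]), (3239, [0, 1, 1, 0, 1, 0]), (3250, [0, 1, 0, 1]),
  (3549, [1, 0, 1, 1, 0]), (3796, [0, 1]), (3851, [1]), (4057, [0, 1, 0])]

theorem chk_u : chkP wu = true := by decide +kernel
theorem chk_v : chkP wv = true := by decide +kernel
theorem chk_d : chkP wd = true := by decide +kernel
theorem fix_u : evalK wu 1707 = 1707 := by decide +kernel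
theorem fix_v : evalK wv 1707 = 1707 := by decide +kernel
theorem mv_d : evalK wd 1707 = 301 := by decide +kernel
theorem nd : L28.Nodup := by decide +kernel
theorem lt : (L28.all fun i => Nat.blt i 4060) = true := by decide +kernel
theorem mem1707 : L28.contains 1707 = true := by decide +kernel
theorem mem1439 : L28.contains 1439 = true := by decide +kernel
theorem not_mem0 : L28.contains 0 = false := by decide +kernel
theorem chk_tab : (tab.all fun t => Nat.beq (evalK (t.2.flatMap gw) 1439) t.1 && t.2.all fun k => Nat.blt k 2) = true := by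
  decide +kernel
theorem tab_all : (L28.all fun i => Nat.beq i 1707 || tab.any fun t => Nat.beq t.1 i) = true := by decide +kernel

/-- the set of the 28 points -/
def S28 : Set (Fin 4060) := {i | L28.contains (i : ℕ) = true}

theorem ncard_S28 : S28.ncard = 28 := by
  have h : S28 = ((L28.toFinset.attachFin fun i hi => by
      rw [List.mem_toFinset] at hi
      have := List.all_eq_true.1 lt i hi
      exact by rwa [Nat.blt_eq] at this) : Finset (Fin 4060)) := by
    ext i
    rw [Finset.mem_coe, Finset.mem_attachFin, List.mem_toFinset]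
    exact List.contains_iff_mem
  rw [h, Set.ncard_coe_finset, Finset.card_attachFin, List.toFinset_card_of_nodup nd]
  rfl

theorem el_smul (w : List ℕ) (i : Fin 4060) : (((wprod ml w : RuOrder.H) • i : Fin 4060) : ℕ) = evalK w i := evalK_eq w i

/-- the stabilizer of the 28 points -/
def XX : Subgroup RuOrder.H where
  carrier := {g | ∀ i : Fin 4060, g • i ∈ S28 ↔ i ∈ S28}
  mul_mem' {a b} ha hb i := by rw [mul_smul, ha, hb]
  one_mem' i := by rw [one_smul]
  inv_mem' {a} ha i := by rw [← ha (a⁻¹ • i), smul_inv_smul]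

theorem mem_XX_of {g : RuOrder.H} (h : ∀ i ∈ S28, g • i ∈ S28) : g ∈ XX := by
  have h1 : (fun i => g • i) '' S28 ⊆ S28 := by
    rintro _ ⟨i, hi, rfl⟩
    exact h i hi
  have hinj : Function.Injective (fun i : Fin 4060 => g • i) := MulAction.injective g
  have h2 : (fun i => g • i) '' S28 = S28 := by
    apply Set.eq_of_subset_of_ncard_le h1
    rw [Set.ncard_image_of_injective _ hinj]
  intro i
  refine ⟨fun hi => ?_, h i⟩
  rw [← h2] at hi
  obtain ⟨j, hj, e⟩ := hi
  rwa [← hinj e]

theorem mem_XX_of_chk {w : List ℕ} (h : chkP w = true) : (wprod ml w : RuOrder.H) ∈ XX := by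
  apply mem_XX_of
  intro i hi
  show L28.contains (((wprod ml w : RuOrder.H) • i : Fin 4060) : ℕ) = true
  rw [el_smul]
  exact List.all_eq_true.1 h i (List.contains_iff_mem.1 hi)

/-- the base points -/
def p0 : Fin 4060 := ⟨1707, by norm_num⟩
def p1 : Fin 4060 := ⟨1439, by norm_num⟩

theorem smul_eq {w : List ℕ} {i j : Fin 4060} (h : evalK w i = j) : (wprod ml w : RuOrder.H) • i = j :=
  Fin.ext ((el_smul w i).trans h)

/-- the stabilizer in `XX` of the point 1707 -/
def YY : Subgroup RuOrder.H where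
  carrier := {g | g ∈ XX ∧ g • p0 = p0}
  mul_mem' {a b} ha hb := ⟨XX.mul_mem ha.1 hb.1, by rw [mul_smul, hb.2, ha.2]⟩
  one_mem' := ⟨XX.one_mem, one_smul _ _⟩
  inv_mem' {a} ha := ⟨XX.inv_mem ha.1, by rw [inv_smul_eq_iff, ha.2]⟩

theorem YY_le : YY ≤ XX := fun _ h => h.1

theorem wu_YY : (wprod ml wu : RuOrder.H) ∈ YY := ⟨mem_XX_of_chk chk_u, smul_eq fix_u⟩
theorem wv_YY : (wprod ml wv : RuOrder.H) ∈ YY := ⟨mem_XX_of_chk chk_v, smul_eq fix_v⟩

theorem gw_YY {k : ℕ} (hk : k < 2) : (wprod ml (gw k) : RuOrder.H) ∈ YY := by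
  interval_cases k
  · exact wu_YY
  · exact wv_YY

theorem flat_YY : ∀ {l : List ℕ}, (∀ k ∈ l, k < 2) → (wprod ml (l.flatMap gw) : RuOrder.H) ∈ YY
  | [], _ => YY.one_mem
  | k :: l, h => by
    rw [List.flatMap_cons, wprod_append]
    exact YY.mul_mem (gw_YY (h k List.mem_cons_self)) (flat_YY fun j hj => h j (List.mem_cons_of_mem _ hj))

/-- the orbit of 1439 under `YY` -/
theorem orbit_YY : MulAction.orbit YY p1 = S28 \ {p0} := by
  ext i
  constructor
  · rintro ⟨g, rfl⟩
    refine ⟨(g.2.1 p1).2 mem1439, ?_⟩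
    intro h
    rw [Set.mem_singleton_iff] at h
    have h1 : (g : RuOrder.H) • p1 = (g : RuOrder.H) • p0 := by rw [g.2.2]; exact h
    have h2 := MulAction.injective _ h1
    exact absurd (congrArg Fin.val h2) (by decide)
  · rintro ⟨hi, hne⟩
    have h1 := List.all_eq_true.1 tab_all i (List.contains_iff_mem.1 hi)
    rw [Bool.or_eq_true, List.any_eq_true] at h1
    rcases h1 with h1 | ⟨t, ht, h1⟩
    · exact absurd (Fin.ext (Nat.eq_of_beq_eq_true h1)) hne
    · have h2 := List.all_eq_true.1 chk_tab t ht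
      rw [Bool.and_eq_true, List.all_eq_true] at h2
      refine ⟨⟨wprod ml (t.2.flatMap gw), flat_YY fun k hk => by have := h2.2 k hk; rwa [Nat.blt_eq] at this⟩, ?_⟩
      show (wprod ml (t.2.flatMap gw) : RuOrder.H) • p1 = i
      apply smul_eq
      rw [← Nat.eq_of_beq_eq_true h1]
      exact Nat.eq_of_beq_eq_true h2.1

/-- `XX` is transitive on the 28 points -/
theorem orbit_XX : MulAction.orbit XX p0 = S28 := by
  have hd : (wprod ml wd : RuOrder.H) ∈ XX := mem_XX_of_chk chk_d
  have hq : (wprod ml wd : RuOrder.H) • p0 = ⟨301, by norm_num⟩ := smul_eq mv_d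
  have h301 : (⟨301, by norm_num⟩ : Fin 4060) ∈ MulAction.orbit YY p1 := by
    rw [orbit_YY]
    refine ⟨?_, ?_⟩
    · show L28.contains 301 = true
      decide +kernel
    · intro h
      exact absurd (congrArg Fin.val h) (by decide)
  obtain ⟨y, hy⟩ := h301
  ext i
  constructor
  · rintro ⟨g, rfl⟩
    exact (g.2 p0).2 mem1707
  · intro hi
    by_cases h0 : i = p0
    · rw [h0]
      exact MulAction.mem_orbit_self _
    · have h1 : i ∈ MulAction.orbit YY p1 := by
        rw [orbit_YY]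
        exact ⟨hi, h0⟩
      obtain ⟨g, hg⟩ := h1
      refine ⟨⟨g.1 * y.1⁻¹ * wprod ml wd, XX.mul_mem (XX.mul_mem (YY_le g.2) (XX.inv_mem (YY_le y.2))) hd⟩, ?_⟩
      show (g.1 * y.1⁻¹ * wprod ml wd) • p0 = i
      have hy' : (y.1 : RuOrder.H) • p1 = ⟨301, by norm_num⟩ := hy
      have hg' : (g.1 : RuOrder.H) • p1 = i := hg
      rw [mul_smul, mul_smul, hq, ← hy', inv_smul_smul, hg']

theorem card_XX : 756 ∣ Nat.card XX := by
  have hf : Finite RuOrder.H := H436.TwoRu.finite_H
  have h1 : Nat.card (MulAction.orbit XX p0) * Nat.card (MulAction.stabilizer XX p0) = Nat.card XX := by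
    rw [← Nat.card_prod]
    exact Nat.card_congr (MulAction.orbitProdStabilizerEquivGroup XX p0)
  have h2 : Nat.card (MulAction.orbit YY p1) * Nat.card (MulAction.stabilizer YY p1) = Nat.card YY := by
    rw [← Nat.card_prod]
    exact Nat.card_congr (MulAction.orbitProdStabilizerEquivGroup YY p1)
  have h3 : Nat.card (MulAction.stabilizer XX p0) = Nat.card YY := by
    refine Nat.card_congr ⟨fun g => ⟨g.1.1, g.1.2, g.2⟩, fun g => ⟨⟨g.1, g.2.1⟩, g.2.2⟩, fun _ => rfl, fun _ => rfl⟩
  have h4 : (S28 \ {p0}).ncard = 27 := by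
    rw [Set.ncard_sdiff_singleton_of_mem (show p0 ∈ S28 from mem1707), ncard_S28]
  rw [orbit_XX, Nat.card_coe_set_eq, ncard_S28, h3] at h1
  rw [orbit_YY, Nat.card_coe_set_eq, h4] at h2
  rw [← h1, ← h2]
  exact ⟨Nat.card (MulAction.stabilizer YY p1), by ring⟩

theorem XX_ne_top : XX ≠ ⊤ := by
  intro h
  have := RuOrder.isPretransitive
  obtain ⟨g, hg⟩ := MulAction.exists_smul_eq RuOrder.H p0 (⟨0, by norm_num⟩ : Fin 4060)
  have h1 : g ∈ XX := by rw [h]; trivial
  have h2 := (h1 p0).2 mem1707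
  rw [hg] at h2
  have h3 : L28.contains 0 = true := h2
  rw [not_mem0] at h3
  exact Bool.false_ne_true h3

end Cfsg.Agent.H148.Ru
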