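import Cfsg.Agent.H148.Ru.CentSeven
import Cfsg.Agent.H148.Ru.XSub
import Cfsg.Agent.H148.Ru.RankThree
import Cfsg.Agent.H940.EngData
import Cfsg.Agent.H940.EngLoc
import Cfsg.Agent.S1627

/-!
# Row `Ru` of S5906/S5907 (helper148)

Five pairwise separated subgroups of the Rudvalis group: `²F₄(2)` (maximal: rank 3 on 4060 points), the normalizers of
the Sylow subgroups for 5, 13, 29, and a subgroup of order divisible by 756 (it contains `U₃(3)`).
-/

set_option autoImplicit false
set_option maxRecDepth 100000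
set_option exponentiation.threshold 5000

namespace Cfsg.Agent.H148.Ru

open Subgroup Cfsg Cfsg.Agent.SporadicB Cfsg.Agent.RuD.Letters Cfsg.Agent.SporRec.TCUpperCert
open Cfsg.Agent.Lib.BitNet Cfsg.Agent.SporadicB.RuData Cfsg.Agent.SporadicB.RuOrder
open Cfsg.Agent.OrdDiv Cfsg.Agent.H940 Cfsg.Agent.H940.Eng Cfsg.Agent.H940.Eng.D Cfsg.Agent.H940.MaxCls

/-! ### the point stabilizer is maximal (the orbits: helper690, `H690.Spor.Ru`) -/

theorem orb_b : Nat.ble 1755 (popc 12 (iter [net0, net1, net2, net3, net4] 8 (Nat.pow 2 3))) = true := by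
  decide +kernel

/-- a neighbour of the base point -/
def c3 : Fin 4060 := ⟨3, by norm_num⟩

theorem adj_c3 : (row 0).testBit 3 = true := by decide +kernel
theorem adj_b2 : (row 0).testBit 29 = false := by decide +kernel

theorem orbit_eq (x : Fin 4060) : MulAction.orbit (MulAction.stabilizer H b1) x = MulAction.orbit H1 x := by
  ext y
  constructor
  · rintro ⟨⟨⟨g, hg⟩, hgs⟩, hy⟩
    exact ⟨⟨g, hg, hgs⟩, hy⟩
  · rintro ⟨⟨g, hg, hgs⟩, hy⟩
    exact ⟨⟨⟨g, hg⟩, hgs⟩, hy⟩

theorem adj_orbit {x y : Fin 4060} (h : y ∈ MulAction.orbit H1 x) : (row 0).testBit y = (row 0).testBit x := by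
  obtain ⟨⟨g, hg, hgs⟩, hy⟩ := h
  have h1 := (mem_Aut.1 hg) b1 x
  have h2 : g b1 = b1 := hgs
  have h3 : g x = y := hy
  rw [h2, h3] at h1
  exact h1

theorem not_mem_orbit (x : Fin 4060) (hx : x ≠ b1) : b1 ∉ MulAction.orbit H1 x := by
  rintro ⟨⟨g, hg, hgs⟩, hy⟩
  have h3 : g x = b1 := hy
  have h4 : g b1 = b1 := hgs
  exact hx (g.injective (h3.trans h4.symm))

theorem orbits : (MulAction.orbit H1 c3).ncard = 1755 ∧ (MulAction.orbit H1 b2).ncard = 2304 ∧
    ∀ x, x = b1 ∨ x ∈ MulAction.orbit H1 c3 ∨ x ∈ MulAction.orbit H1 b2 := by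
  have h1 : 2304 ≤ Nat.card (MulAction.orbit H1 b2) := orbit_card_ge (K := 12) (k := 8) gens1 orb2
  have h2 : 1755 ≤ Nat.card (MulAction.orbit H1 c3) := orbit_card_ge (K := 12) (k := 8) gens1 orb_b
  rw [Nat.card_coe_set_eq] at h1 h2
  have hd : Disjoint (MulAction.orbit H1 c3) (MulAction.orbit H1 b2) := by
    rw [Set.disjoint_left]
    intro y hy' hy
    have h3 := adj_orbit hy
    have h4 := adj_orbit hy'
    have h5 : (row 0).testBit (c3 : ℕ) = true := adj_c3
    have h6 : (row 0).testBit (b2 : ℕ) = false := adj_b2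
    rw [h3, h5, h6] at h4
    exact Bool.false_ne_true h4
  have hd1 : Disjoint ({b1} : Set (Fin 4060)) (MulAction.orbit H1 c3 ∪ MulAction.orbit H1 b2) := by
    rw [Set.disjoint_left]
    intro x hx hx'
    rw [Set.mem_singleton_iff] at hx
    subst hx
    rcases hx' with h3 | h3
    · exact not_mem_orbit c3 (by decide) h3
    · exact not_mem_orbit b2 (by decide) h3
  have hU : (({b1} : Set (Fin 4060)) ∪ (MulAction.orbit H1 c3 ∪ MulAction.orbit H1 b2)).ncard ≤ 4060 := by
    refine (Set.ncard_le_card _).trans ?_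
    simp
  have hN := hU
  rw [Set.ncard_union_eq hd1, Set.ncard_union_eq hd, Set.ncard_singleton] at hN
  refine ⟨by omega, by omega, fun x => ?_⟩
  have h3 : (({b1} : Set (Fin 4060)) ∪ (MulAction.orbit H1 c3 ∪ MulAction.orbit H1 b2)) = Set.univ := by
    apply Set.eq_of_subset_of_ncard_le (Set.subset_univ _)
    rw [Set.ncard_union_eq hd1, Set.ncard_union_eq hd, Set.ncard_singleton, Set.ncard_univ]
    simp
    omega
  have h4 : x ∈ (({b1} : Set (Fin 4060)) ∪ (MulAction.orbit H1 c3 ∪ MulAction.orbit H1 b2)) := by rw [h3]; trivial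
  exact h4

theorem isCoatom_stab : IsCoatom (MulAction.stabilizer H b1) := by
  have hf : Finite H := H436.TwoRu.finite_H
  have := isPretransitive
  refine coatom_of_rank_three b1 c3 b2 (k := 1755) (l := 2304) ?_ ?_ ?_ ?_ ?_ ?_ ?_
  · rw [orbit_eq]; exact orbits.1
  · rw [orbit_eq]; exact orbits.2.1
  · intro x
    rw [orbit_eq, orbit_eq]
    exact orbits.2.2 x
  · rw [orbit_eq]; exact not_mem_orbit _ (by decide)
  · rw [orbit_eq]; exact not_mem_orbit _ (by decide)
  · rw [Nat.card_eq_fintype_card, Fintype.card_fin]; decide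
  · rw [Nat.card_eq_fintype_card, Fintype.card_fin]; decide

/-! ### the engine -/

/-- the local data -/
def loc : List LD := [⟨7, 28, [(2, 3), (3, 1), (7, 1)]⟩, ⟨13, 52, [(2, 4), (3, 1), (13, 1)]⟩,
  ⟨29, 29, [(2, 1), (7, 1), (29, 1)]⟩]

theorem fin : Finite H := H436.TwoRu.finite_H

theorem simple : IsSimpleGroup H := by
  have h1 : IsSimpleGroup Cfsg.Spor.Ru := Cfsg.Agent.S1627.result.2.2
  have : Nontrivial H := RuLat.Main.equiv.symm.toEquiv.nontrivial
  exact IsSimpleGroup.isSimpleGroup_of_surjective RuLat.Main.equiv.toMonoidHom RuLat.Main.equiv.surjective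

theorem card : Nat.card H = n_ru := RuOrder.card_H

theorem na : ¬ ∀ a b : H, a * b = b * a := by
  intro h
  have := fin
  have := simple
  have h1 := simple
  have hb : MulAction.stabilizer H b1 = ⊥ ∨ MulAction.stabilizer H b1 = ⊤ := by
    have hn : (MulAction.stabilizer H b1).Normal := ⟨fun n hn g => by
      have e : g * n * g⁻¹ = n := by rw [h g n]; group
      rwa [e]⟩
    exact hn.eq_bot_or_eq_top
  have h2 := card_stabilizer b1
  rcases hb with hb | hb
  · rw [hb, Subgroup.card_bot] at h2
    norm_num at h2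
  · exact isCoatom_stab.1 hb

theorem cent_eq {R : Subgroup H} {x : H} (hx : R = zpowers x) :
    Nat.card (centralizer (R : Set H)) = Nat.card (centralizer ({x} : Set H)) := by
  rw [hx, ← CpAutRuFive.centralizer_zpowers]

theorem exists_gen {R : Subgroup H} {r : ℕ} (hr : r.Prime) (hR : Nat.card R = r) : ∃ x : H, orderOf x = r ∧ R = zpowers x := by
  have := fin
  have : Fact r.Prime := ⟨hr⟩
  obtain ⟨x, hx⟩ := exists_prime_orderOf_dvd_card' r (hR ▸ dvd_rfl : r ∣ Nat.card R)
  refine ⟨x, by rw [Subgroup.orderOf_coe, hx], ?_⟩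
  symm
  apply Subgroup.eq_of_le_of_card_ge
  · rw [zpowers_le]; exact x.2
  · rw [Nat.card_zpowers, Subgroup.orderOf_coe, hx, hR]

theorem cent29 {R : Subgroup H} (hR : Nat.card R = 29) : Nat.card (centralizer (R : Set H)) ∣ prodl [(29, 1)] := by
  obtain ⟨x, hx, e⟩ := exists_gen (by norm_num) hR
  rw [cent_eq e]
  exact (H436.TwoRu.cent29 x hx).trans (by decide)

theorem cent13 {R : Subgroup H} (hR : Nat.card R = 13) : Nat.card (centralizer (R : Set H)) ∣ prodl [(2, 2), (13, 1)] := by
  obtain ⟨x, hx, e⟩ := exists_gen (by norm_num) hR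
  rw [cent_eq e]
  exact (H436.TwoRu.cent13 x hx).trans (by decide)

theorem cent7_le {R : Subgroup H} (hR : Nat.card R = 7) : Nat.card (centralizer (R : Set H)) ≤ 28 := by
  obtain ⟨x, hx, e⟩ := exists_gen (by norm_num) hR
  rw [cent_eq e, H436.TwoRu.card_eq_of (by norm_num) (by norm_num) hx orderC, H436.TwoRu.cen_eq]
  exact card_C

theorem cent7 {R : Subgroup H} (hR : Nat.card R = 7) :
    Nat.card (centralizer (R : Set H)) ∣ prodl [(2, 2), (3, 1), (7, 1)] := by
  have := fin
  have h1 := cent7_le hR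
  have h2 : 7 ∣ Nat.card (centralizer (R : Set H)) := by
    have : Fact (Nat.Prime 7) := ⟨by norm_num⟩
    have hcyc : IsCyclic R := isCyclic_of_prime_card hR
    have h3 : R ≤ centralizer (R : Set H) := by
      intro x hx
      rw [mem_centralizer_iff]
      intro y hy
      exact congrArg Subtype.val ((IsCyclic.isMulCommutative (α := R)).is_comm.comm (⟨y, hy⟩ : R) ⟨x, hx⟩)
    rw [← hR]
    exact card_dvd_of_le h3
  obtain ⟨c, hc⟩ := h2
  have hpos : 0 < Nat.card (centralizer (R : Set H)) := Nat.card_pos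
  rw [hc] at h1 hpos ⊢
  have hc4 : c ≤ 4 := by omega
  have hc0 : 0 < c := by omega
  interval_cases c <;> decide

theorem ctx (B : Base) : Ctx H l_ru n_ru o_ru loc where
  fin := fin
  simple := simple
  card := card
  val := v_ru
  nodup := nd_ru
  ords := ords_ru B
  loc := by
    have := fin
    have := simple
    have hc := card
    obtain ⟨R7, h7⟩ := exists_card_eq (G := H) (r := 7) (by decide +kernel) (by rw [hc]; decide +kernel)
    obtain ⟨R13, h13⟩ := exists_card_eq (G := H) (r := 13) (by decide +kernel) (by rw [hc]; decide +kernel)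
    obtain ⟨R29, h29⟩ := exists_card_eq (G := H) (r := 29) (by decide +kernel) (by rw [hc]; decide +kernel)
    intro ld hld
    simp only [loc, List.mem_cons, List.not_mem_nil, or_false] at hld
    rcases hld with rfl | rfl | rfl
    · refine loc_of_eq hc (by decide +kernel) (by decide +kernel) (by decide +kernel) fun R hR => ?_
      have h := cnP_sound na hc (r := 7) (by decide +kernel) (by decide +kernel) (by decide +kernel) h7 (cent7 h7)
        (P := fun c m => (c == 7 && m == 21) || (c == 28 && m == 168) || c == 84) (by decide +kernel) hR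
      have hle := cent7_le hR
      simp only [Bool.or_eq_true, Bool.and_eq_true, beq_iff_eq] at h
      rcases h with (⟨h1, h2⟩ | ⟨h1, h2⟩) | h
      · rw [h1, h2]; decide
      · rw [h1, h2]; decide
      · omega
    · exact loc_of_cent na hc (by decide +kernel) (by decide +kernel) (by decide +kernel) h13 (cent13 h13)
        (by decide +kernel) (by decide +kernel)
    · exact loc_of_cent na hc (by decide +kernel) (by decide +kernel) (by decide +kernel) h29 (cent29 h29)
        (by decide +kernel) (by decide +kernel)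

/-- **the row `Ru`** -/
theorem five (B : Base) : Sep 5 Cfsg.Spor.Ru := by
  refine Sep.of_mulEquiv ?_ RuLat.Main.equiv.symm
  have c := ctx B
  have := c.fin
  have := c.simple
  have hc := card
  obtain ⟨R13, h13⟩ := exists_card_eq (G := H) (r := 13) (by decide +kernel) (by rw [hc]; decide +kernel)
  obtain ⟨R29, h29⟩ := exists_card_eq (G := H) (r := 29) (by decide +kernel) (by rw [hc]; decide +kernel)
  have c29 : Nat.card (normalizer (R29 : Set H)) = 406 :=
    (cn_exact na hc (r := 29) (by decide +kernel) (by decide +kernel) (by decide +kernel) h29 (cent29 h29)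
      (C := 29) (N := 406) (by decide +kernel) h29).2
  have c13 : Nat.card (normalizer (R13 : Set H)) = 624 :=
    (cn_exact na hc (r := 13) (by decide +kernel) (by decide +kernel) (by decide +kernel) h13 (cent13 h13)
      (C := 52) (N := 624) (by decide +kernel) h13).2
  have : Fact (Nat.Prime 5) := ⟨by norm_num⟩
  obtain ⟨P⟩ : Nonempty (Sylow 5 H) := inferInstance
  have c5 : 125 ∣ Nat.card (normalizer ((P : Subgroup H) : Set H)) := by
    have h1 : 5 ^ 3 ∣ Nat.card H := by rw [hc]; decide +kernel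
    have h2 := P.pow_dvd_card_of_pow_dvd_card h1
    exact (show 125 ∣ Nat.card P from h2).trans (card_dvd_of_le Subgroup.le_normalizer)
  have n5 : normalizer ((P : Subgroup H) : Set H) ≠ ⊤ := by
    intro h
    have hn : (P : Subgroup H).Normal := normalizer_eq_top_iff.1 h
    have h3 : (P : Subgroup H) = ⊥ ∨ (P : Subgroup H) = ⊤ := hn.eq_bot_or_eq_top
    have h1 : 5 ^ 3 ∣ Nat.card H := by rw [hc]; decide +kernel
    have h2 := P.pow_dvd_card_of_pow_dvd_card h1
    rcases h3 with h3 | h3
    · have h4 : Nat.card P = 1 := by rw [h3]; exact card_bot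
      rw [h4] at h2
      exact absurd h2 (by decide)
    · obtain ⟨k, hk⟩ := IsPGroup.iff_card.1 P.isPGroup'
      have h4 : Nat.card P = n_ru := by
        have : Nat.card P = Nat.card (⊤ : Subgroup H) := by rw [← h3]
        rw [this, card_top, hc]
      rw [h4] at hk
      have h5 : 2 ∣ 5 ^ k := by rw [← hk]; decide +kernel
      exact absurd (Nat.Prime.dvd_of_dvd_pow Nat.prime_two h5) (by decide)
  have ne : ∀ {R : Subgroup H} {k : ℕ}, Nat.card (normalizer (R : Set H)) = k → (k != n_ru) = true →
      normalizer (R : Set H) ≠ ⊤ := by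
    intro R k h1 h2 h3
    rw [h3, card_top, hc] at h1
    rw [bne_iff_ne] at h2
    exact h2 h1.symm
  have f29 : ∀ p ∈ [29], Full p (normalizer (R29 : Set H)) := by
    intro p hp; rw [List.mem_singleton.1 hp]
    exact full_of_card hc (by decide +kernel) (by decide +kernel) h29
  have f13 : ∀ p ∈ [13], Full p (normalizer (R13 : Set H)) := by
    intro p hp; rw [List.mem_singleton.1 hp]
    exact full_of_card hc (by decide +kernel) (by decide +kernel) h13
  have f5 : ∀ p ∈ [5], Full p (normalizer ((P : Subgroup H) : Set H)) := by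
    intro p hp; rw [List.mem_singleton.1 hp]
    exact full_normalizer (by norm_num) P
  have f0 : ∀ p ∈ ([] : List ℕ), Full p XX := fun p hp => absurd hp List.not_mem_nil
  have cM : Nat.card (MulAction.stabilizer H b1) = 35942400 := card_stabilizer b1
  have hM := isCoatom_stab
  have iM : (MulAction.stabilizer H b1).index = 4060 := by
    have h1 := (MulAction.stabilizer H b1).index_mul_card
    rw [cM, RuOrder.card_H] at h1
    have h2 : (145926144000 : ℕ) = 4060 * 35942400 := by decide +kernel
    have h3 : (0 : ℕ) < 35942400 := by decide +kernel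
    exact Nat.eq_of_mul_eq_mul_right h3 (h1.trans h2)
  exact sep_five hM.1 (ne c29 (by decide +kernel)) (ne c13 (by decide +kernel)) n5 XX_ne_top
    (apart_of_coatom_dvd hM c29.symm.dvd (by rw [cM]; decide +kernel))
    (apart_of_coatom_full hM (f13 13 (List.mem_singleton.2 rfl)) (by rw [iM]; decide))
    (apart_of_coatom_dvd hM c5 (by rw [cM]; decide +kernel))
    (apart_of_coatom_dvd hM card_XX (by rw [cM]; decide +kernel))
    (c.apart c29.symm.dvd c13.symm.dvd [(2, 10), (3, 2), (5, 3)] _ _ 60 f29 f13 (by decide +kernel))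
    (c.apart c29.symm.dvd c5 [(2, 13), (3, 3), (13, 1)] _ _ 60 f29 f5 (by decide +kernel))
    (c.apart c29.symm.dvd card_XX [(2, 12), (5, 3), (13, 1)] _ _ 60 f29 f0 (by decide +kernel))
    (c.apart c13.symm.dvd c5 [(2, 10), (3, 2), (7, 1), (29, 1)] _ _ 60 f13 f5 (by decide +kernel))
    (c.apart c13.symm.dvd card_XX [(2, 10), (5, 3), (29, 1)] _ _ 60 f13 f0 (by decide +kernel))
    (c.apart c5 card_XX [(2, 12), (13, 1), (29, 1)] _ _ 60 f5 f0 (by decide +kernel))

end Cfsg.Agent.H148.Ru
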